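/-
Generated tables and certificates for the subgroups PSL(2,243) and PSL(2,729) of E₈(3): orbits of highest
weights, multiplicities of eigenvalue residues, and certificates of infeasibility for each target.
-/
import Cfsg.Agent.Lib.SL2Defining.Certificate

set_option autoImplicit false
set_option linter.style.longLine false
set_option maxRecDepth 100000
set_option maxHeartbeats 4000000

namespace Cfsg.Agent.E8Three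

open Cfsg.Agent.SL2Defining

/-- The exponents on the roots of a torus element of order seventy-three. -/
def uv73 : List (ℕ × ℕ) := [
  (35, 35), (35, 36), (36, 36), (32, 35), (32, 32), (8, 35), (33, 17), (26, 51), (51, 33), (27, 36), (27, 33),
  (23, 32), (24, 32), (24, 33), (17, 11), (35, 27), (11, 30), (11, 27), (7, 26), (8, 26), (8, 27), (36, 12),
  (36, 9), (32, 8), (33, 8), (33, 9), (12, 12), (8, 11), (9, 11), (9, 12), (8, 8), (9, 8), (9, 9), (5, 7), (5, 8),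
  (6, 8), (30, 28), (26, 27), (27, 27), (27, 28), (26, 24), (27, 24), (27, 25), (23, 23), (23, 24), (24, 24),
  (2, 27), (3, 27), (3, 28), (72, 26), (72, 27), (0, 27), (72, 23), (72, 24), (0, 24), (69, 23), (27, 9), (28, 9),
  (28, 10), (24, 8), (24, 9), (25, 9), (24, 5), (24, 6), (25, 6), (21, 5), (0, 8), (0, 9), (1, 9), (70, 8),
  (70, 5), (18, 24), (18, 25), (19, 25), (15, 24), (15, 21), (64, 24), (16, 6), (11, 3), (12, 3), (12, 4), (8, 2),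
  (8, 3), (9, 3), (8, 72), (8, 0), (9, 0), (5, 72), (57, 2), (57, 3), (58, 3), (54, 2), (54, 72), (9, 57), (9, 58),
  (10, 58), (6, 57), (6, 54), (55, 57), (2, 18), (2, 19), (3, 19), (72, 18), (72, 15), (48, 18), (27, 0), (27, 1),
  (28, 1), (24, 0), (24, 70), (3, 3), (3, 4), (4, 4), (0, 3), (3, 0), (3, 1), (4, 1), (72, 72), (72, 0), (0, 72),
  (0, 1), (1, 0), (1, 1), (69, 72), (70, 72), (70, 0), (0, 70), (69, 69), (70, 69), (70, 70), (49, 3), (49, 0),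
  (45, 72), (46, 72), (46, 0), (25, 55), (1, 58), (1, 55), (70, 54), (71, 54), (71, 55), (18, 16), (67, 19),
  (67, 16), (63, 15), (64, 15), (64, 16), (19, 1), (19, 71), (15, 70), (16, 70), (16, 71), (68, 1), (64, 0),
  (65, 0), (65, 1), (64, 70), (65, 70), (65, 71), (61, 69), (61, 70), (62, 70), (57, 67), (9, 49), (58, 52),
  (58, 49), (54, 48), (55, 48), (55, 49), (3, 68), (3, 65), (72, 64), (0, 64), (0, 65), (52, 68), (48, 67),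
  (49, 67), (49, 68), (48, 64), (49, 64), (49, 65), (45, 63), (45, 64), (46, 64), (4, 50), (0, 49), (1, 49),
  (1, 50), (0, 46), (1, 46), (1, 47), (70, 45), (70, 46), (71, 46), (49, 49), (50, 49), (50, 50), (46, 48),
  (46, 49), (47, 49), (46, 45), (46, 46), (47, 46), (43, 45), (67, 65), (68, 65), (68, 66), (64, 64), (64, 65),
  (65, 65), (64, 61), (64, 62), (65, 62), (61, 61), (40, 64), (40, 65), (41, 65), (37, 64), (37, 61), (65, 46),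
  (65, 47), (66, 47), (62, 46), (62, 43), (38, 46), (56, 62), (49, 40), (49, 41), (50, 41), (46, 40), (46, 37),
  (22, 40), (47, 22), (40, 56), (65, 38), (41, 41), (41, 38), (37, 37), (38, 37), (38, 38)]

/-- Representatives of the residues modulo seventy-three under multiplication by three. -/
def reps73 : List ℕ := [0, 1, 2, 4, 5, 7, 13]

/-- The multiplicities at those residues. -/
def targets73 : List (List ℕ) := [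
  [8, 2, 3, 4, 5, 4, 2], [8, 2, 5, 4, 2, 3, 4], [8, 3, 3, 3, 3, 4, 4], [8, 3, 3, 3, 4, 3, 4],
  [8, 3, 3, 3, 4, 4, 3], [8, 3, 3, 4, 4, 3, 3], [8, 3, 4, 2, 4, 2, 5], [8, 3, 4, 3, 3, 3, 4],
  [8, 3, 4, 4, 3, 3, 3], [8, 4, 2, 3, 2, 5, 4], [8, 4, 2, 5, 4, 2, 3], [8, 4, 3, 3, 3, 4, 3],
  [8, 4, 3, 4, 3, 3, 3], [8, 4, 4, 3, 3, 3, 3], [8, 5, 4, 2, 3, 4, 2], [20, 0, 3, 1, 9, 3, 3],
  [20, 1, 0, 3, 3, 9, 3], [20, 3, 1, 0, 3, 3, 9], [20, 3, 3, 9, 1, 0, 3], [20, 3, 9, 3, 0, 3, 1],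
  [20, 9, 3, 3, 3, 1, 0], [32, 0, 1, 1, 8, 8, 0], [32, 0, 8, 8, 0, 1, 1], [32, 1, 0, 1, 0, 8, 8],
  [32, 1, 1, 0, 8, 0, 8], [32, 8, 0, 8, 1, 0, 1], [32, 8, 8, 0, 1, 1, 0]]

/-- The orbits for 3^5. -/
def orbs5 : List (List ℕ) := [
  [242], [202, 122, 124, 130, 148], [228, 200, 116, 106, 76], [210, 146, 196, 104, 70], [156, 226, 194, 98, 52],
  [204, 128, 142, 184, 68], [150, 208, 140, 178, 50], [132, 154, 220, 176, 44], [234, 218, 170, 26, 78],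
  [222, 182, 62, 186, 74], [120, 118, 112, 94, 40], [198, 110, 88, 22, 66], [144, 190, 86, 16, 48],
  [126, 136, 166, 14, 42], [192, 92, 34, 102, 64], [138, 172, 32, 96, 46], [174, 38, 114, 100, 58],
  [216, 164, 8, 24, 72], [180, 56, 168, 20, 60], [108, 82, 4, 12, 36], [90, 28, 84, 10, 30], [162, 2, 6, 18, 54],
  [0], [240, 236, 224, 188, 80], [238, 230, 206, 134, 160], [232, 212, 152, 214, 158]]

/-- The columns for 3^5. -/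
def cols5 : List (List ℕ) := [
  [121, 122], [120, 120], [90, 90], [90, 90], [90, 90], [90, 90], [90, 90], [90, 90], [65, 70], [65, 70], [40, 40],
  [30, 30], [30, 30], [30, 30], [30, 30], [30, 30], [30, 30], [25, 20], [25, 20], [10, 10], [10, 10], [5, 10],
  [1, 0], [205, 200], [270, 270], [270, 270]]

/-- The orbits for 3^6. -/
def orbs6 : List (List ℕ) := [
  [672, 560, 224], [684, 596, 332, 268, 76, 228], [630, 434, 574, 266, 70, 210], [468, 676, 572, 260, 52, 156],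
  [612, 380, 412, 508, 68, 204], [450, 622, 410, 502, 50, 150], [396, 460, 652, 500, 44, 132],
  [678, 578, 278, 106, 318, 226], [624, 416, 520, 104, 312, 208], [462, 658, 518, 98, 294, 154],
  [660, 524, 116, 348, 316, 220], [552, 200, 600, 344, 304, 184], [426, 550, 194, 582, 290, 142],
  [534, 146, 438, 586, 302, 178], [384, 424, 544, 176, 528, 128], [702, 650, 494, 26, 78, 234],
  [666, 542, 170, 510, 74, 222], [558, 218, 654, 506, 62, 186], [588, 308, 196], [420, 532, 140],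
  [360, 352, 328, 256, 40, 120], [354, 334, 274, 94, 282, 118], [594, 326, 250, 22, 66, 198],
  [432, 568, 248, 16, 48, 144], [378, 406, 490, 14, 42, 126], [576, 272, 88, 264, 64, 192],
  [414, 514, 86, 258, 46, 138], [522, 110, 330, 262, 58, 174], [306, 190, 570, 254, 34, 102],
  [342, 298, 166, 498, 38, 114], [288, 136, 408, 496, 32, 96], [516, 92, 276, 100, 300, 172], [364],
  [648, 488, 8, 24, 72, 216], [540, 164, 492, 20, 60, 180], [546, 182], [336, 280, 112], [504, 56, 168],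
  [324, 244, 4, 12, 36, 108], [270, 82, 246, 10, 30, 90], [486, 2, 6, 18, 54, 162], [252, 28, 84], [0],
  [720, 704, 656, 512, 80, 240], [606, 362, 358, 346, 310, 202], [444, 604, 356, 340, 292, 148],
  [390, 442, 598, 338, 286, 130], [714, 686, 602, 350, 322, 238], [372, 388, 436, 580, 284, 124],
  [696, 632, 440, 592, 320, 232], [642, 470, 682, 590, 314, 214], [480, 712, 680, 584, 296, 160],
  [708, 668, 548, 188, 564, 236], [366, 370, 382, 418, 526, 122], [690, 614, 386, 430, 562, 230],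
  [636, 452, 628, 428, 556, 212], [474, 694, 626, 422, 538, 158], [618, 398, 466, 670, 554, 206],
  [456, 640, 464, 664, 536, 152], [402, 478, 706, 662, 530, 134], [726, 722, 710, 674, 566, 242],
  [688, 608, 368, 376, 400, 472], [634, 446, 610, 374, 394, 454], [616, 392, 448], [724, 716, 692, 620, 404, 484],
  [718, 698, 638, 458, 646, 482], [700, 644, 476], [728]]

/-- The columns for 3^6. -/
def cols6 : List (List ℕ) := [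
  [123, 120, 3, 3, 3, 5, 3, 3, 3], [108, 108, 0, 2, 4, 3, 3, 3, 3], [108, 108, 0, 2, 3, 4, 3, 2, 4],
  [108, 108, 0, 2, 4, 2, 3, 4, 3], [108, 108, 0, 2, 3, 3, 2, 4, 4], [108, 108, 0, 2, 4, 3, 3, 3, 3],
  [108, 108, 0, 2, 4, 1, 3, 5, 3], [108, 108, 0, 2, 0, 6, 3, 2, 5], [108, 108, 0, 1, 1, 4, 3, 4, 5],
  [108, 108, 0, 2, 1, 6, 4, 1, 4], [108, 108, 0, 2, 4, 2, 3, 4, 3], [108, 108, 12, 5, 6, 0, 2, 4, 0],
  [108, 108, 0, 3, 3, 3, 3, 3, 3], [108, 108, 12, 5, 3, 3, 2, 3, 1], [108, 108, 0, 3, 4, 3, 4, 2, 2],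
  [78, 84, 6, 4, 2, 2, 2, 2, 1], [78, 84, 6, 4, 2, 3, 2, 2, 0], [78, 84, 6, 4, 2, 2, 2, 1, 2],
  [54, 54, 0, 2, 3, 0, 1, 2, 1], [54, 54, 0, 1, 1, 2, 2, 1, 2], [48, 48, 0, 1, 2, 0, 1, 3, 1],
  [48, 48, 0, 1, 0, 3, 1, 1, 2], [36, 36, 0, 2, 1, 0, 1, 2, 0], [36, 36, 0, 2, 1, 1, 1, 1, 0],
  [36, 36, 0, 1, 2, 1, 1, 1, 0], [36, 36, 0, 0, 0, 3, 1, 1, 1], [36, 36, 0, 0, 0, 2, 1, 1, 2],
  [36, 36, 0, 1, 2, 0, 2, 0, 1], [36, 36, 0, 0, 1, 0, 1, 2, 2], [36, 36, 0, 2, 2, 0, 0, 2, 0],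
  [36, 36, 0, 0, 1, 1, 2, 0, 2], [36, 36, 0, 1, 0, 3, 1, 0, 1], [32, 32, 4, 2, 1, 1, 1, 0, 0],
  [30, 24, 6, 2, 1, 1, 0, 0, 0], [30, 24, 6, 3, 0, 0, 0, 1, 0], [26, 28, 6, 2, 1, 0, 0, 1, 0],
  [24, 24, 0, 0, 1, 0, 1, 1, 1], [15, 12, 3, 1, 0, 0, 1, 0, 0], [12, 12, 0, 1, 1, 0, 0, 0, 0],
  [12, 12, 0, 0, 0, 1, 1, 0, 0], [6, 12, 6, 1, 0, 0, 0, 0, 0], [6, 6, 0, 0, 0, 0, 0, 0, 1],
  [1, 0, 1, 0, 0, 0, 0, 0, 0], [246, 240, 6, 6, 6, 8, 7, 6, 7], [144, 144, 12, 7, 7, 1, 4, 3, 1],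
  [144, 144, 12, 6, 3, 4, 3, 4, 3], [144, 144, 0, 3, 4, 4, 4, 4, 5], [324, 324, 12, 11, 11, 6, 9, 9, 7],
  [144, 144, 0, 2, 3, 5, 5, 3, 6], [324, 324, 12, 8, 6, 10, 10, 8, 11], [324, 324, 12, 10, 12, 5, 9, 10, 7],
  [324, 324, 12, 9, 8, 10, 9, 8, 9], [246, 240, 18, 10, 8, 5, 6, 6, 4], [144, 144, 0, 2, 3, 4, 3, 6, 6],
  [324, 324, 0, 5, 7, 11, 10, 9, 12], [324, 324, 0, 7, 9, 9, 10, 9, 10], [324, 324, 0, 7, 9, 10, 9, 9, 10],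
  [324, 324, 12, 10, 11, 4, 8, 11, 9], [324, 324, 12, 10, 8, 9, 9, 8, 9], [324, 324, 0, 6, 9, 9, 9, 10, 11],
  [726, 732, 18, 19, 19, 21, 21, 19, 21], [432, 432, 24, 16, 12, 11, 11, 11, 9],
  [432, 432, 12, 11, 9, 15, 12, 11, 13], [216, 216, 0, 4, 5, 8, 7, 5, 7], [972, 972, 24, 26, 27, 26, 26, 28, 27],
  [972, 972, 24, 25, 25, 29, 26, 27, 28], [486, 486, 12, 14, 15, 12, 13, 14, 12],
  [365, 364, 9, 10, 10, 10, 10, 10, 10]]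

/-- The certificates for 243. -/
def certs5 : List (List ℤ × Cert) := [
  ([136, 112], .split 0 (.res 5 [0, 1]) (.pos [0, 1])),
  ([120, 128], .split 0 (.res 5 [0, 1]) (.pos [1, 0]))]

/-- The certificates for 729. -/
def certs6 : List (List ℤ × Cert) := [
  ([136, 112, 8, 2, 3, 4, 5, 4, 2], .pos [-6, 7, 6, -6, -6, -6, -6, -6, -6]),
  ([136, 112, 8, 2, 5, 4, 2, 3, 4], .pos [-2, -2, 2, 50, -2, 11, 63, 24, 24]),
  ([136, 112, 8, 3, 3, 3, 3, 4, 4], .pos [-6, 7, 6, -6, -6, -6, -6, -6, -6]),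
  ([136, 112, 8, 3, 3, 3, 4, 3, 4], .pos [-6, 7, 6, -6, -6, -6, -6, -6, -6]),
  ([136, 112, 8, 3, 3, 3, 4, 4, 3], .pos [-6, 7, 6, -6, -6, -6, -6, -6, -6]),
  ([136, 112, 8, 3, 3, 4, 4, 3, 3], .pos [-6, 7, 6, -6, -6, -6, -6, -6, -6]),
  ([136, 112, 8, 3, 4, 2, 4, 2, 5], .pos [-6, 7, 6, -6, -6, -6, -6, -6, -6]),
  ([136, 112, 8, 3, 4, 3, 3, 3, 4], .pos [-6, 7, 6, -6, -6, -6, -6, -6, -6]),
  ([136, 112, 8, 3, 4, 4, 3, 3, 3], .pos [-6, 7, 6, -6, -6, -6, -6, -6, -6]),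
  ([136, 112, 8, 4, 2, 3, 2, 5, 4], .pos [-6, 7, 6, -6, -6, -6, -6, -6, -6]),
  ([136, 112, 8, 4, 2, 5, 4, 2, 3], .pos [-6, 7, 6, -6, -6, -6, -6, -6, -6]),
  ([136, 112, 8, 4, 3, 3, 3, 4, 3], .pos [-6, 7, 6, -6, -6, -6, -6, -6, -6]),
  ([136, 112, 8, 4, 3, 4, 3, 3, 3], .pos [-6, 7, 6, -6, -6, -6, -6, -6, -6]),
  ([136, 112, 8, 4, 4, 3, 3, 3, 3], .pos [-6, 7, 6, -6, -6, -6, -6, -6, -6]),
  ([136, 112, 8, 5, 4, 2, 3, 4, 2], .pos [-6, 7, 6, -6, -6, -6, -6, -6, -6]),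
  ([136, 112, 20, 0, 3, 1, 9, 3, 3], .pos [-1, -1, 1, 51, -1, 25, -1, -1, 51]),
  ([136, 112, 20, 1, 0, 3, 3, 9, 3], .pos [-1, -1, 1, 25, 51, 25, -1, -1, 12]),
  ([136, 112, 20, 3, 1, 0, 3, 3, 9], .pos [-3, -3, 3, 49, 127, 62, 23, -3, 36]),
  ([136, 112, 20, 3, 3, 9, 1, 0, 3], .pos [-1, -1, 1, 25, -1, -1, 38, 25, 12]),
  ([136, 112, 20, 3, 9, 3, 0, 3, 1], .pos [-1, -1, 1, 38, -1, -1, 64, -1, 12]),
  ([136, 112, 20, 9, 3, 3, 3, 1, 0], .pos [-6, 7, 6, -6, -6, -6, -6, -6, -6]),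
  ([136, 112, 32, 0, 1, 1, 8, 8, 0], .pos [-1, -1, 1, 51, -1, 25, -1, -1, 51]),
  ([136, 112, 32, 0, 8, 8, 0, 1, 1], .pos [-1, -1, 1, 38, -1, -1, 64, -1, 12]),
  ([136, 112, 32, 1, 0, 1, 0, 8, 8], .pos [-3, -3, 3, 49, 62, -3, 192, -3, 36]),
  ([136, 112, 32, 1, 1, 0, 8, 0, 8], .pos [-2, -2, 2, 50, 37, 63, -2, 37, 24]),
  ([136, 112, 32, 8, 0, 8, 1, 0, 1], .pos [-6, -6, 19, -6, 228, -6, 384, 228, 72]),
  ([136, 112, 32, 8, 8, 0, 1, 1, 0], .pos [1, -12, -1, 144, -12, 144, -12, 144, 300]),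
  ([120, 128, 8, 2, 3, 4, 5, 4, 2], .pos [15, -24, -15, 288, -24, 28, 80, -24, 184]),
  ([120, 128, 8, 2, 5, 4, 2, 3, 4], .pos [-2, -2, 2, 50, -2, 11, 63, 24, 24]),
  ([120, 128, 8, 3, 3, 3, 3, 4, 4], .split 3 (.split 6 (.split 10 (.split 1 (.split 12 (.split 14 (.split 15 (.split 16 (.split 17 (.split 2 (.split 4 (.split 7 (.split 8 (.split 9 (.split 18 (.split 5 (.split 21 (.split 27 (.split 19 (.split 30 (.split 29 (.split 20 (.split 23 (.split 22 (.pos [75, -120, 185, -120, 660, 348, 192, -120, 504]) (.pos [5, -21, -5, 252, -21, 57, 135, 174, 96])) (.pos [5, -21, -5, 252, -21, 57, 213, 96, 96])) (.split 24 (.split 25 (.pos [1, -12, -1, 144, -12, 27, 105, 105, 66]) (.pos [1, -12, -1, 144, -12, 144, -12, 222, 66])) (.pos [0, 0, 0, 0, 1, 0, 0, 0, 0]))) (.pos [7, -6, -6, 66, -6, -6, -6, -6, -6])) (.pos [-11, -24, 11, 288,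 366, 184, 522, -24, 210])) (.pos [4, -9, -4, 108, -9, 4, 147, -9, 30])) (.pos [-3, -3, 3, 49, 62, -3, 192, -3, 36])) (.pos [1, -12, -1, 144, -12, 66, 144, 66, 66])) (.pos [0, 0, 0, 0, 1, 0, 0, 0, 0])) (.pos [1, -12, -1, 144, 300, 144, -12, -12, 66])) (.pos [0, 0, 0, 0, 0, 1, 0, 0, 0])) (.pos [0, 0, 0, 0, 0, 1, 0, 0, 0])) (.pos [0, 0, 0, 0, 0, 1, 0, 0, 0])) (.pos [-1, -1, 1, 12, 12, 25, -1, -1, 12])) (.pos [0, 0, 0, 0, 0, 1, 0, 0, 0])) (.pos [0, 0, 0, 1, 0, 0, 0, 0, 0])) (.pos [0, 0, 0, 1, 0, 0, 0, 0, 0])) (.pos [0, 0, 0, 1, 0, 0, 0, 0, 0])) (.pos [0, 0, 0, 0, 1, 0, 0, 0, 0])) (.pos [1, -1, -1, 12, -1, 1, -1, -1, 0])) (.pos [0, 0, 0, 0, 1, 0, 0, 0, 0])) (.pos [0, 0, 0, 0, 1, 0, 0, 0, 0])) (.pos [0, 0, 0, 0, 1, 0, 0, 0, 0])) (.pos [0, 0, 0, 0, 1, 0, 0, 0, 0])),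
  ([120, 128, 8, 3, 3, 3, 4, 3, 4], .split 1 (.split 2 (.split 3 (.split 5 (.split 6 (.split 10 (.split 14 (.split 4 (.split 16 (.split 15 (.split 12 (.split 17 (.split 9 (.split 7 (.split 8 (.split 18 (.split 19 (.split 20 (.split 21 (.split 24 (.split 27 (.split 28 (.split 29 (.split 31 (.split 25 (.split 23 (.split 22 (.pos [23, -42, 68, -42, 270, 192, 36, 36, 114]) (.pos [2, -24, -2, 288, -24, 54, 249, 171, 132])) (.pos [4, -4, -4, 48, -4, -2, 3, 1, 0])) (.pos [31, -60, 73, 96, 252, 564, -60, 330, 174])) (.pos [31, -60, 73, 96, 252, 564, -60, 330, 174])) (.pos [1, -1, -1, 12, 1, 1, -1, 0, 0])) (.split 22 (.split 28 (.split 29 (.split 25 (.split 31 (.split 30 (.split 23 (.pos [23, -42, 68, -42, 270, 192, 36, 36, 114]) (.pos [1, -12, -1, 144, -12, 144, -12, 222, 66])) (.pos [-21, -60, 47, 564, 720, -60, 1032, 96, 954]))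 (.pos [1, -12, -1, 144, -12, 300, -12, 222, 66])) (.pos [1, -12, -1, 144, -12, 300, -12, 222, 66])) (.pos [0, 0, 0, 0, 0, 0, 0, 1, 0])) (.pos [0, 0, 0, 0, 0, 0, 0, 1, 0])) (.pos [0, 0, 0, 0, 0, 0, 0, 1, 0]))) (.split 29 (.split 22 (.pos [16, -36, 49, 42, 276, 120, 276, -36, 120]) (.pos [7, -6, -6, 66, -6, -6, -6, -6, -6])) (.pos [0, 0, 0, 0, 1, 0, 0, 0, 0]))) (.split 28 (.pos [9, -30, 17, 204, 438, 282, -30, -30, 126]) (.pos [8, -18, 31, -18, 138, 99, 21, 138, 60]))) (.pos [3, -10, -3, 120, -10, 146, -10, 16, 172])) (.split 27 (.split 30 (.pos [1, -12, -1, 144, -12, 144, -12, 222, 66]) (.pos [8, -18, 31, -18, 138, 99, 21, 138, 60])) (.pos [0, 0, 0, 0, 1, 0, 0, 0, 0]))) (.split 20 (.split 21 (.split 26 (.split 19 (.split 24 (.split 25 (.split 31 (.pos [1, -12, -1, 144, -12, -12, 144, 66, 66]) (.pos [0, 0, 0, 0, 0, 1, 0, 0,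 0])) (.pos [0, 0, 0, 0, 0, 1, 0, 0, 0])) (.pos [1, -12, -1, 144, 222, 144, -12, -12, 66])) (.pos [0, 0, 0, 0, 0, 1, 0, 0, 0])) (.pos [0, 0, 0, 0, 0, 1, 0, 0, 0])) (.pos [0, 0, 0, 0, 0, 1, 0, 0, 0])) (.pos [0, 0, 0, 0, 0, 0, 0, 1, 0]))) (.pos [1, -12, -1, 144, 300, 144, -12, -12, 66])) (.pos [0, 0, 0, 0, 0, 1, 0, 0, 0])) (.pos [0, 0, 0, 0, 0, 1, 0, 0, 0])) (.pos [0, 0, 0, 0, 0, 1, 0, 0, 0])) (.pos [0, 0, 0, 1, 0, 0, 0, 0, 0])) (.pos [1, -1, -1, 12, -1, 1, -1, -1, 0])) (.pos [0, 0, 0, 1, 0, 0, 0, 0, 0])) (.pos [0, 0, 0, 1, 0, 0, 0, 0, 0])) (.pos [0, 0, 0, 0, 0, 0, 0, 1, 0])) (.pos [0, 0, 0, 0, 1, 0, 0, 0, 0])) (.pos [0, 0, 0, 0, 1, 0, 0, 0, 0])) (.pos [0, 0, 0, 0, 1, 0, 0, 0, 0])) (.pos [0, 0, 0, 0, 1, 0, 0, 0, 0])) (.pos [0, 0, 0, 0, 1, 0, 0, 0, 0])) (.pos [0, 0, 0, 0, 0, 1, 0, 0, 0])) (.pos [0, 0, 0, 0, 1, 0, 0, 0, 0])),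
  ([120, 128, 8, 3, 3, 3, 4, 4, 3], .split 6 (.split 3 (.split 10 (.split 15 (.split 16 (.split 7 (.split 8 (.split 9 (.split 4 (.split 12 (.split 17 (.split 1 (.split 5 (.split 14 (.split 2 (.split 18 (.split 19 (.split 20 (.split 22 (.split 23 (.split 21 (.split 26 (.split 30 (.split 31 (.split 25 (.pos [2, -24, 11, 210, 132, -24, 288, 54, 132]) (.pos [23, -42, 55, 36, 270, 270, -42, 36, 192])) (.pos [1, -12, -1, 144, 66, 144, -12, -12, 222])) (.pos [-55, -120, 55, 1440, 1830, 1206, 894, -120, 1908])) (.pos [1, -12, -1, 144, 66, 144, -12, -12, 222])) (.pos [-1, -1, 1, 38, -1, 38, -1, -1, 51])) (.pos [7, -6, -6, 66, -6, -6, -6, -6, -6])) (.pos [3, -3, -3, 36, -3, -1, 2, 1, 0])) (.split 20 (.split 24 (.split 22 (.split 28 (.split 29 (.split 27 (.split 23 (.split 21 (.pos [23, -42, 68, -42, 270, 192, 36, 36, 114]) (.pos [-1,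 -1, 1, 25, -1, 25, -1, 38, 12])) (.pos [7, -6, -6, 66, -6, -6, -6, -6, -6])) (.pos [0, 0, 0, 0, 1, 0, 0, 0, 0])) (.pos [0, 0, 0, 0, 1, 0, 0, 0, 0])) (.pos [0, 0, 0, 0, 0, 0, 0, 1, 0])) (.pos [0, 0, 0, 0, 0, 0, 0, 1, 0])) (.pos [0, 0, 0, 0, 1, 0, 0, 0, 0])) (.pos [0, 0, 0, 0, 1, 0, 0, 0, 0]))) (.pos [5, -8, -5, 96, -8, 44, -8, -8, 96])) (.pos [1, -12, -1, 144, 300, 144, -12, -12, 66])) (.pos [0, 0, 0, 0, 0, 1, 0, 0, 0])) (.pos [0, 0, 0, 0, 1, 0, 0, 0, 0])) (.pos [0, 0, 0, 0, 1, 0, 0, 0, 0])) (.pos [0, 0, 0, 0, 1, 0, 0, 0, 0])) (.pos [0, 0, 0, 1, 0, 0, 0, 0, 0])) (.pos [-1, -1, 1, 25, -1, 25, -1, -1, 12])) (.pos [0, 0, 0, 0, 0, 0, 0, 0, 1])) (.pos [0, 0, 0, 0, 0, 1, 0, 0, 0])) (.pos [0, 0, 0, 0, 0, 1, 0, 0, 0])) (.pos [0, 0, 0, 0, 0, 1, 0, 0, 0])) (.pos [0, 0, 0, 1, 0, 0, 0, 0, 0])) (.pos [0, 0, 0, 1, 0, 0, 0, 0, 0])) (.pos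 [0, 0, 0, 0, 1, 0, 0, 0, 0])) (.pos [0, 0, 0, 0, 1, 0, 0, 0, 0])) (.pos [0, 0, 0, 0, 1, 0, 0, 0, 0])),
  ([120, 128, 8, 3, 3, 4, 4, 3, 3], .split 1 (.split 2 (.split 3 (.split 4 (.split 5 (.split 6 (.split 7 (.split 8 (.split 9 (.split 10 (.split 16 (.split 15 (.split 17 (.split 14 (.split 12 (.split 18 (.split 19 (.split 20 (.split 25 (.split 21 (.split 30 (.split 22 (.split 24 (.pos [17, -48, 9, 420, -48, 30, 342, 186, 264]) (.split 27 (.split 28 (.pos [23, -42, 55, 36, 426, 270, -42, -42, 114]) (.pos [8, -18, 31, -18, 138, 99, 21, 138, 60])) (.pos [0, 0, 0, 0, 1, 0, 0, 0, 0]))) (.pos [5, -21, -5, 252, -21, 18, 174, 174, 96])) (.pos [1, -12, -1, 144, 66, -12, 144, -12, 144])) (.pos [1, -12, -1, 144, 40, 144, -12, 40, 196])) (.split 21 (.split 26 (.split 30 (.split 28 (.split 31 (.split 25 (.split 23 (.split 22 (.pos [15,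 -24, 37, -24, 171, 132, -24, 15, 54]) (.pos [1, -12, -1, 144, -12, 27, 105, 144, 66])) (.pos [11, -15, -11, 180, -15, 63, -15, 102, 24])) (.pos [0, 0, 0, 0, 0, 1, 0, 0, 0])) (.pos [0, 0, 0, 0, 0, 1, 0, 0, 0])) (.pos [1, -12, -1, 144, -12, 144, -12, 144, 300])) (.pos [1, -12, -1, 144, -12, 222, -12, 66, 300])) (.pos [0, 0, 0, 0, 0, 1, 0, 0, 0])) (.pos [0, 0, 0, 0, 0, 1, 0, 0, 0]))) (.pos [5, -60, -5, 720, -60, 96, 564, 720, 408])) (.pos [15, -24, -15, 288, -24, 28, 80, -24, 184])) (.pos [1, -1, -1, 12, 3, 1, -1, -1, 0])) (.pos [7, -6, -6, 66, -6, -6, -6, -6, -6])) (.pos [0, 0, 0, 0, 1, 0, 0, 0, 0])) (.pos [0, 0, 0, 1, 0, 0, 0, 0, 0])) (.pos [0, 0, 0, 1, 0, 0, 0, 0, 0])) (.pos [0, 0, 0, 1, 0, 0, 0, 0, 0])) (.pos [0, 0, 0, 0, 1, 0, 0, 0, 0])) (.pos [0, 0, 0, 0, 0, 1, 0, 0, 0])) (.pos [0, 0, 0, 0, 0, 0, 0, 1, 0])) (.pos [0, 0,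 0, 0, 0, 1, 0, 0, 0])) (.pos [0, 0, 0, 0, 1, 0, 0, 0, 0])) (.pos [0, 0, 0, 0, 1, 0, 0, 0, 0])) (.pos [0, 0, 0, 0, 0, 0, 0, 1, 0])) (.pos [0, 0, 0, 0, 1, 0, 0, 0, 0])) (.pos [0, 0, 0, 0, 0, 0, 0, 0, 1])) (.pos [0, 0, 0, 0, 1, 0, 0, 0, 0])),
  ([120, 128, 8, 3, 4, 2, 4, 2, 5], .split 2 (.split 4 (.split 25 (.split 1 (.split 5 (.split 26 (.split 21 (.split 31 (.split 7 (.split 8 (.split 9 (.split 19 (.split 3 (.split 10 (.split 12 (.split 17 (.split 16 (.split 6 (.split 14 (.split 15 (.split 20 (.split 22 (.split 23 (.split 29 (.split 28 (.split 18 (.split 40 (.pos [21, -18, 5, -18, -18, -18, -18, -18, -18]) (.split 40 (.pos [21, -18, 5, -18, -18, -18, -18, -18, -18]) (.pos [0, 0, 1, 0, 0, 0, 0, 0, 0]))) (.pos [7, -6, -6, 66, -6, -6, -6, -6, -6])) (.pos [1, -12, -1, 144, -12, -12, 144, 144, 66])) (.pos [7, -6, -6, 66, -6, -6,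 -6, -6, -6])) (.pos [1, -12, -1, 144, -12, 66, 105, 105, 66])) (.pos [1, -12, -1, 144, -12, -12, 144, 144, 66])) (.pos [0, 0, 0, 0, 0, 0, 0, 1, 0])) (.pos [0, 0, 0, 1, 0, 0, 0, 0, 0])) (.pos [0, 0, 0, 0, 0, 1, 0, 0, 0])) (.pos [0, 0, 0, 0, 0, 0, 0, 1, 0])) (.pos [0, 0, 0, 1, 0, 0, 0, 0, 0])) (.pos [0, 0, 0, 1, 0, 0, 0, 0, 0])) (.pos [0, 0, 0, 0, 0, 1, 0, 0, 0])) (.pos [0, 0, 0, 0, 0, 0, 0, 1, 0])) (.pos [0, 0, 0, 0, 0, 0, 0, 1, 0])) (.pos [1, -12, -1, 144, -12, 66, 105, 105, 66])) (.pos [0, 0, 0, 0, 0, 1, 0, 0, 0])) (.pos [0, 0, 0, 0, 0, 1, 0, 0, 0])) (.pos [0, 0, 0, 0, 0, 1, 0, 0, 0])) (.pos [0, 0, 0, 0, 0, 1, 0, 0, 0])) (.pos [0, 0, 0, 0, 0, 1, 0, 0, 0])) (.pos [1, -12, -1, 144, -12, 66, 105, 105, 66])) (.pos [0, 0, 0, 0, 0, 1, 0, 0, 0])) (.pos [0, 0, 0, 0, 0, 1, 0, 0, 0])) (.pos [0, 0, 0, 0, 0, 1, 0, 0, 0])) (.pos [0,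 0, 0, 0, 0, 1, 0, 0, 0])) (.pos [0, 0, 0, 0, 0, 1, 0, 0, 0])),
  ([120, 128, 8, 3, 4, 3, 3, 3, 4], .split 30 (.split 1 (.split 5 (.split 2 (.split 26 (.split 3 (.split 4 (.split 14 (.split 9 (.split 19 (.split 17 (.split 12 (.split 16 (.split 7 (.split 25 (.pos [4, -9, -4, 108, -9, -9, 69, 30, 30]) (.pos [1, -12, -1, 144, -12, 66, 144, 66, 66])) (.pos [0, 0, 0, 0, 0, 1, 0, 0, 0])) (.pos [0, 0, 0, 1, 0, 0, 0, 0, 0])) (.pos [1, -1, -1, 12, -1, 1, -1, -1, 0])) (.pos [0, 0, 0, 1, 0, 0, 0, 0, 0])) (.pos [2, -11, -2, 132, -11, 28, 145, 41, 54])) (.pos [0, 0, 0, 0, 0, 1, 0, 0, 0])) (.pos [0, 0, 0, 0, 0, 0, 1, 0, 0])) (.pos [0, 0, 0, 0, 0, 0, 0, 1, 0])) (.pos [0, 0, 0, 0, 0, 0, 0, 1, 0])) (.pos [1, -12, -1, 144, -12, 66, 144, 66, 66])) (.pos [0, 0, 0, 0, 0, 1, 0, 0, 0])) (.pos [7, -6, -6, 66, -6, -6, -6, -6, -6])) (.pos [7, -6, -6,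 66, -6, -6, -6, -6, -6])) (.pos [2, -11, -2, 132, -11, 28, 145, 41, 54])),
  ([120, 128, 8, 3, 4, 4, 3, 3, 3], .pos [5, -21, -5, 252, -21, 57, 174, 135, 96]),
  ([120, 128, 8, 4, 2, 3, 2, 5, 4], .pos [1, -12, 12, 66, 144, 66, 144, -12, 66]),
  ([120, 128, 8, 4, 2, 5, 4, 2, 3], .split 6 (.split 4 (.split 3 (.split 1 (.split 5 (.split 2 (.split 10 (.split 12 (.split 14 (.split 8 (.split 18 (.split 15 (.split 17 (.split 7 (.split 9 (.split 16 (.split 20 (.split 19 (.split 21 (.split 24 (.split 25 (.split 27 (.split 30 (.split 31 (.split 26 (.pos [-14, -66, 79, 402, 792, -66, 1026, 324, 480]) (.split 26 (.split 29 (.pos [3, -36, 23, 276, 120, -36, 432, 120, 198]) (.pos [0, 0, 0, 0, 0, 0, 0, 1, 0])) (.pos [0, 0, 0, 0, 0, 0, 0, 0, 1]))) (.split 31 (.split 26 (.split 22 (.split 23 (.pos [15, -24, 37, -24, 132, 132, -24, 54, 54])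 (.pos [7, -6, -6, 66, -6, -6, -6, -6, -6])) (.pos [1, -12, -1, 144, -12, 144, -12, 222, 66])) (.pos [1, -12, -1, 144, -12, 144, -12, 66, 222])) (.pos [0, 0, 0, 0, 0, 1, 0, 0, 0]))) (.pos [-11, -24, 11, 288, 366, -24, 444, -24, 600])) (.pos [-11, -24, 11, 288, 392, 80, 340, -24, 392])) (.pos [8, -18, 31, -18, 138, 99, 21, 138, 60])) (.pos [23, -42, 68, -42, 660, 192, 36, 36, 114])) (.split 21 (.split 30 (.split 22 (.split 28 (.split 29 (.split 26 (.split 31 (.split 25 (.split 23 (.pos [23, -42, 68, -42, 270, 192, 36, 36, 114]) (.pos [11, -15, -11, 180, -15, 63, -15, 102, 24])) (.pos [0, 0, 0, 0, 0, 1, 0, 0, 0])) (.pos [0, 0, 0, 0, 0, 1, 0, 0, 0])) (.pos [0, 0, 0, 0, 0, 0, 0, 0, 1])) (.pos [0, 0, 0, 0, 0, 0, 0, 1, 0])) (.pos [0, 0, 0, 0, 0, 0, 0, 1, 0])) (.pos [0, 0, 0, 0, 0, 0, 0, 1, 0])) (.pos [0, 0, 0, 0, 0, 0, 0, 0, 1]))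 (.pos [0, 0, 0, 0, 0, 1, 0, 0, 0]))) (.split 19 (.split 21 (.split 30 (.split 26 (.split 24 (.split 27 (.split 29 (.split 23 (.split 22 (.pos [75, -120, 185, -120, 660, 348, 192, -120, 504]) (.pos [0, 0, 0, 0, 0, 0, 0, 1, 0])) (.pos [-1, -1, 1, 12, 25, -1, 25, 12, 12])) (.pos [0, 0, 0, 0, 1, 0, 0, 0, 0])) (.pos [0, 0, 0, 0, 1, 0, 0, 0, 0])) (.pos [0, 0, 0, 0, 1, 0, 0, 0, 0])) (.pos [0, 0, 0, 0, 0, 0, 0, 0, 1])) (.pos [0, 0, 0, 0, 0, 0, 0, 0, 1])) (.pos [0, 0, 0, 0, 0, 0, 0, 0, 1])) (.pos [0, 0, 0, 0, 0, 0, 0, 0, 1]))) (.pos [0, 0, 0, 0, 0, 0, 0, 1, 0])) (.pos [7, -6, -6, 66, -6, -6, -6, -6, -6])) (.pos [0, 0, 0, 0, 0, 1, 0, 0, 0])) (.pos [0, 0, 0, 0, 0, 1, 0, 0, 0])) (.pos [3, -3, -3, 36, 5, 1, -1, -3, 1])) (.pos [-1, -1, 1, 38, -1, -1, 25, 38, 12])) (.pos [0, 0, 0, 0, 1, 0, 0, 0, 0])) (.pos [0, 0, 0, 0, 0, 0, 0, 1, 0]))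 (.pos [0, 0, 0, 0, 1, 0, 0, 0, 0])) (.pos [0, 0, 0, 0, 1, 0, 0, 0, 0])) (.pos [0, 0, 0, 0, 1, 0, 0, 0, 0])) (.pos [0, 0, 0, 0, 1, 0, 0, 0, 0])) (.pos [0, 0, 0, 0, 1, 0, 0, 0, 0])) (.pos [0, 0, 0, 0, 1, 0, 0, 0, 0])) (.pos [0, 0, 0, 0, 1, 0, 0, 0, 0])) (.pos [0, 0, 0, 0, 1, 0, 0, 0, 0])) (.pos [0, 0, 0, 0, 1, 0, 0, 0, 0])),
  ([120, 128, 8, 4, 3, 3, 3, 4, 3], .split 1 (.split 2 (.split 3 (.split 4 (.split 5 (.split 8 (.split 6 (.split 7 (.split 10 (.split 12 (.split 15 (.split 16 (.split 17 (.split 9 (.split 14 (.split 19 (.split 18 (.split 21 (.split 20 (.split 29 (.split 28 (.pos [99, -174, 122, 762, 216, 372, 1308, -174, 450]) (.split 26 (.split 28 (.split 25 (.pos [9, -30, 17, 204, 126, 48, 282, -30, 126]) (.pos [1, -12, -1, 144, -12, 222, -12, 66, 300])) (.pos [0, 0, 0, 0, 0, 0, 0, 0, 1])) (.pos [0, 0, 0, 0, 0, 0, 0,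 0, 1]))) (.split 30 (.split 27 (.split 26 (.split 22 (.split 23 (.pos [23, -42, 68, -42, 348, 192, 36, 36, 114]) (.pos [1, -1, -1, 12, 3, 1, -1, -1, 0])) (.pos [1, -1, -1, 12, -1, -1, 1, 2, 0])) (.pos [31, -60, 73, 96, 252, 408, -60, 330, 174])) (.pos [0, 0, 0, 0, 1, 0, 0, 0, 0])) (.pos [-11, -24, 11, 288, 600, 288, 132, -24, 288]))) (.split 22 (.split 23 (.pos [8, -18, 31, -18, 138, 99, 21, 60, 60]) (.pos [4, -9, -4, 108, -9, -9, 69, 108, 30])) (.pos [0, 0, 0, 0, 0, 0, 0, 1, 0]))) (.pos [5, -21, -5, 252, -21, 330, -21, 57, 408])) (.pos [-11, -24, 11, 288, 600, 288, 132, -24, 288])) (.split 21 (.split 25 (.pos [-8, -21, 8, 252, 291, 57, 291, -21, 330]) (.pos [0, 0, 0, 0, 0, 1, 0, 0, 0])) (.pos [0, 0, 0, 0, 0, 1, 0, 0, 0]))) (.pos [0, 0, 0, 0, 1, 0, 0, 0, 0])) (.pos [0, 0, 0, 0, 0, 1, 0, 0, 0])) (.pos [-3, -3, 3, 153, -3,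 23, 49, -3, 101])) (.pos [7, -6, -6, 66, -6, -6, -6, -6, -6])) (.pos [-3, -3, 3, 114, -3, 10, 153, -3, 36])) (.pos [-1, -1, 1, 12, 12, 25, -1, -1, 12])) (.pos [0, 0, 0, 0, 1, 0, 0, 0, 0])) (.pos [0, 0, 0, 0, 0, 1, 0, 0, 0])) (.pos [0, 0, 0, 0, 1, 0, 0, 0, 0])) (.pos [0, 0, 0, 0, 0, 1, 0, 0, 0])) (.pos [0, 0, 0, 0, 1, 0, 0, 0, 0])) (.pos [0, 0, 0, 0, 0, 0, 0, 0, 1])) (.pos [0, 0, 0, 0, 1, 0, 0, 0, 0])) (.pos [0, 0, 0, 0, 0, 1, 0, 0, 0])) (.pos [0, 0, 0, 0, 1, 0, 0, 0, 0])),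
  ([120, 128, 8, 4, 3, 4, 3, 3, 3], .split 4 (.split 3 (.split 6 (.split 8 (.split 10 (.split 12 (.split 14 (.split 15 (.split 16 (.split 17 (.split 9 (.split 7 (.split 2 (.split 18 (.split 1 (.split 5 (.split 20 (.split 21 (.split 31 (.split 19 (.split 24 (.split 28 (.split 29 (.split 22 (.split 26 (.split 25 (.pos [-8, -8, 21, 148, 96, -8, 200, -8, 96]) (.split 25 (.pos [9, -30, 17, 204, 48, -30, 282, 48, 126]) (.pos [0, 0, 0, 0, 0, 1, 0, 0, 0]))) (.pos [15, -24, 11, 132, -24, 28, 80, -24, 184])) (.pos [1, -12, -1, 144, -12, -12, 144, 222, 66])) (.split 27 (.split 25 (.pos [1, -12, -1, 144, -12, -12, 144, 144, 66]) (.pos [15, -24, 37, -24, 132, 132, -24, 132, 54])) (.pos [0, 0, 0, 0, 1, 0, 0, 0, 0]))) (.pos [1, -12, 25, -12, 144, -12, 144, 222, 66])) (.split 30 (.split 27 (.split 24 (.split 26 (.split 22 (.pos [46, -84,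 123, -6, 1008, 384, 72, -84, 228]) (.pos [-1, -1, 1, 12, 25, -1, 25, 38, 12])) (.split 26 (.split 25 (.split 29 (.pos [3, -36, 23, 276, 120, -36, 432, 120, 198]) (.pos [0, 0, 0, 0, 1, 0, 0, 0, 0])) (.pos [0, 0, 0, 0, 0, 1, 0, 0, 0])) (.pos [0, 0, 0, 0, 0, 1, 0, 0, 0]))) (.pos [0, 0, 0, 0, 1, 0, 0, 0, 0])) (.pos [0, 0, 0, 0, 1, 0, 0, 0, 0])) (.pos [-3, -3, 3, 49, 62, -3, 192, -3, 36]))) (.split 19 (.split 28 (.split 26 (.split 25 (.pos [-17, -30, 17, 360, 438, -30, 594, 48, 282]) (.pos [0, 0, 0, 0, 0, 1, 0, 0, 0])) (.pos [0, 0, 0, 0, 0, 0, 0, 0, 1])) (.pos [0, 0, 0, 0, 0, 0, 0, 0, 1])) (.pos [0, 0, 0, 0, 0, 0, 1, 0, 0]))) (.split 26 (.split 19 (.split 25 (.split 31 (.split 23 (.split 30 (.split 24 (.pos [1, -12, -1, 144, -12, -12, 144, 66, 66]) (.split 22 (.pos [31, -60, 99, -60, 486, 330, 18, 96, 174]) (.pos [7, -6, -6, 66,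 -6, -6, -6, -6, -6]))) (.pos [-11, -24, 11, 288, 366, -24, 522, -24, 210])) (.pos [1, -12, -1, 144, -12, 66, 144, 66, 66])) (.pos [0, 0, 0, 0, 0, 1, 0, 0, 0])) (.pos [0, 0, 0, 0, 0, 1, 0, 0, 0])) (.pos [0, 0, 0, 0, 0, 1, 0, 0, 0])) (.pos [0, 0, 0, 0, 0, 1, 0, 0, 0]))) (.split 28 (.split 21 (.split 26 (.split 19 (.split 25 (.split 30 (.split 31 (.split 23 (.split 24 (.pos [1, -12, -1, 144, -12, -12, 144, 66, 66]) (.split 27 (.pos [31, -60, 73, 96, 252, 408, -60, 330, 174]) (.pos [0, 0, 0, 0, 1, 0, 0, 0, 0]))) (.pos [1, -12, -1, 144, -12, 66, 144, 66, 66])) (.pos [0, 0, 0, 0, 0, 1, 0, 0, 0])) (.pos [0, 0, 0, 0, 0, 0, 0, 0, 1])) (.pos [0, 0, 0, 0, 0, 1, 0, 0, 0])) (.pos [0, 0, 0, 0, 0, 1, 0, 0, 0])) (.pos [0, 0, 0, 0, 0, 1, 0, 0, 0])) (.pos [0, 0, 0, 0, 0, 1, 0, 0, 0])) (.pos [0, 0, 0, 0, 0, 0, 0, 0, 1]))) (.pos [5, -60, -5,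 720, -60, 96, 642, 720, 330])) (.pos [0, 0, 0, 0, 1, 0, 0, 0, 0])) (.pos [0, 0, 0, 0, 1, 0, 0, 0, 0])) (.split 21 (.pos [15, -24, 37, -24, 392, 80, 28, -24, 80]) (.pos [7, -6, -6, 66, -6, -6, -6, -6, -6]))) (.pos [0, 0, 0, 0, 0, 0, 0, 0, 1])) (.pos [0, 0, 0, 0, 0, 1, 0, 0, 0])) (.pos [0, 0, 0, 0, 0, 1, 0, 0, 0])) (.pos [-3, -3, 3, 153, -3, 23, 49, -3, 101])) (.pos [3, -3, -3, 36, -3, -1, 3, 0, 0])) (.pos [-3, -3, 3, 88, -3, 23, 62, 49, 36])) (.pos [0, 0, 0, 0, 1, 0, 0, 0, 0])) (.pos [-1, -1, 1, 12, 12, -1, 25, -1, 12])) (.pos [0, 0, 0, 0, 1, 0, 0, 0, 0])) (.pos [0, 0, 0, 0, 0, 0, 0, 1, 0])) (.pos [0, 0, 0, 0, 1, 0, 0, 0, 0])) (.pos [0, 0, 0, 0, 1, 0, 0, 0, 0])) (.pos [0, 0, 0, 0, 0, 0, 0, 1, 0])),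
  ([120, 128, 8, 4, 4, 3, 3, 3, 3], .split 6 (.split 3 (.split 4 (.split 1 (.split 2 (.split 5 (.split 17 (.split 15 (.split 16 (.split 10 (.split 8 (.split 18 (.split 21 (.split 30 (.split 12 (.split 14 (.split 19 (.split 7 (.split 9 (.split 20 (.split 22 (.split 28 (.split 29 (.split 40 (.pos [21, -18, 5, -18, -18, -18, -18, -18, -18]) (.split 40 (.pos [21, -18, 5, -18, -18, -18, -18, -18, -18]) (.pos [0, 0, 1, 0, 0, 0, 0, 0, 0]))) (.pos [5, -21, -5, 252, -21, 57, 135, 174, 96])) (.split 24 (.split 25 (.pos [1, -12, -1, 144, -12, 14, 118, 66, 92]) (.pos [1, -12, -1, 144, -12, 144, -12, 66, 300])) (.pos [8, -18, 31, -18, 138, 99, 21, 138, 60]))) (.pos [1, -12, -1, 144, -12, 27, 105, 144, 66])) (.pos [1, -12, -1, 144, -12, 27, 105, 144, 66])) (.pos [0, 0, 0, 0, 0, 1, 0, 0, 0])) (.pos [0, 0, 0, 0, 0, 1, 0, 0, 0])) (.pos [2,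 -11, -2, 132, -11, 28, 145, 41, 54])) (.pos [0, 0, 0, 0, 0, 0, 1, 0, 0])) (.pos [1, -12, -1, 144, -12, 144, -12, -12, 66])) (.split 19 (.split 25 (.pos [1, -12, -1, 144, -12, -12, 222, 66, 66]) (.pos [0, 0, 0, 0, 0, 1, 0, 0, 0])) (.pos [0, 0, 0, 0, 0, 0, 1, 0, 0]))) (.pos [5, -21, -5, 252, -21, 330, -21, 57, 408])) (.split 24 (.split 18 (.split 20 (.split 29 (.split 19 (.split 27 (.split 22 (.split 26 (.split 28 (.split 21 (.split 31 (.split 30 (.split 25 (.pos [-3, -3, 3, 49, 49, -3, 75, -3, 36]) (.pos [1, -12, -1, 144, -12, 144, -12, 222, 66])) (.pos [-3, -3, 3, 49, 49, -3, 75, -3, 36])) (.pos [7, -6, -6, 66, -6, -6, -6, -6, -6])) (.pos [1, -12, -1, 144, -12, 144, -12, -12, 66])) (.pos [0, 0, 0, 0, 0, 0, 0, 1, 0])) (.pos [1, -12, -1, 144, -12, -12, 144, 66, 66])) (.pos [0, 0, 0, 0, 0, 0, 0, 1, 0])) (.pos [0, 0, 0, 0, 1,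 0, 0, 0, 0])) (.pos [-1, -1, 1, 12, 12, -1, 25, -1, 12])) (.pos [0, 0, 0, 0, 1, 0, 0, 0, 0])) (.pos [0, 0, 0, 0, 1, 0, 0, 0, 0])) (.pos [0, 0, 0, 0, 1, 0, 0, 0, 0])) (.pos [0, 0, 0, 0, 1, 0, 0, 0, 0]))) (.pos [0, 0, 0, 0, 0, 1, 0, 0, 0])) (.pos [0, 0, 0, 0, 0, 0, 0, 1, 0])) (.pos [-1, -1, 1, 64, -1, 51, -1, 38, 12])) (.pos [-3, -3, 3, 88, -3, 23, 62, 49, 36])) (.pos [-3, -3, 3, 153, -3, 23, 49, -3, 101])) (.pos [-6, -6, 19, -6, 150, 150, -6, -6, 72])) (.pos [0, 0, 0, 0, 0, 1, 0, 0, 0])) (.pos [-6, -6, 19, -6, 150, 150, -6, -6, 72])) (.pos [0, 0, 0, 0, 0, 0, 0, 1, 0])) (.pos [0, 0, 0, 0, 0, 0, 0, 1, 0])) (.pos [0, 0, 0, 0, 0, 0, 0, 1, 0])),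
  ([120, 128, 8, 5, 4, 2, 3, 4, 2], .split 15 (.split 16 (.split 14 (.split 6 (.split 3 (.split 10 (.split 1 (.split 5 (.split 17 (.split 4 (.split 2 (.split 9 (.split 19 (.split 12 (.split 21 (.split 7 (.split 8 (.split 18 (.split 27 (.split 30 (.split 31 (.split 26 (.split 25 (.split 40 (.pos [21, -18, 5, -18, -18, -18, -18, -18, -18]) (.split 40 (.pos [21, -18, 5, -18, -18, -18, -18, -18, -18]) (.pos [0, 0, 1, 0, 0, 0, 0, 0, 0]))) (.pos [0, 0, 0, 0, 0, 1, 0, 0, 0])) (.pos [1, -12, -1, 144, -12, 222, -12, 66, 222])) (.pos [0, 0, 0, 0, 0, 1, 0, 0, 0])) (.pos [-11, -24, 11, 288, 366, -24, 444, -24, 912])) (.pos [-11, -24, 11, 288, 366, 184, 522, -24, 210])) (.split 18 (.split 20 (.split 25 (.split 29 (.pos [-15, -132, 41, 1428, 1116, 180, 1584, -132, 1740]) (.pos [0, 0, 0, 0, 1, 0, 0, 0, 0])) (.pos [0, 0, 0, 0, 0, 1, 0, 0,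 0])) (.pos [0, 0, 0, 0, 1, 0, 0, 0, 0])) (.pos [0, 0, 0, 0, 1, 0, 0, 0, 0]))) (.pos [0, 0, 0, 0, 0, 1, 0, 0, 0])) (.pos [0, 0, 0, 0, 0, 1, 0, 0, 0])) (.pos [0, 0, 0, 0, 0, 1, 0, 0, 0])) (.pos [0, 0, 0, 0, 0, 1, 0, 0, 0])) (.pos [1, -12, -1, 144, -12, 222, -12, 66, 300])) (.pos [0, 0, 0, 0, 0, 1, 0, 0, 0])) (.pos [0, 0, 0, 0, 0, 1, 0, 0, 0])) (.pos [0, 0, 0, 0, 0, 1, 0, 0, 0])) (.pos [-1, -1, 1, 38, -1, 38, -1, -1, 51])) (.pos [0, 0, 0, 0, 0, 1, 0, 0, 0])) (.pos [0, 0, 0, 0, 0, 1, 0, 0, 0])) (.pos [0, 0, 0, 0, 0, 0, 0, 0, 1])) (.pos [0, 0, 0, 0, 0, 0, 0, 0, 1])) (.pos [0, 0, 0, 0, 0, 0, 0, 1, 0])) (.pos [0, 0, 0, 0, 0, 1, 0, 0, 0])) (.pos [0, 0, 0, 0, 0, 1, 0, 0, 0])) (.pos [4, -9, -4, 108, -9, 30, 69, -9, 69])),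
  ([120, 128, 20, 0, 3, 1, 9, 3, 3], .pos [-1, -1, 1, 51, -1, 25, -1, -1, 51]),
  ([120, 128, 20, 1, 0, 3, 3, 9, 3], .pos [-1, -1, 1, 25, 51, 25, -1, -1, 12]),
  ([120, 128, 20, 3, 1, 0, 3, 3, 9], .pos [1, -12, -1, 144, 300, 144, -12, -12, 66]),
  ([120, 128, 20, 3, 3, 9, 1, 0, 3], .pos [-1, -1, 1, 25, -1, -1, 38, 25, 12]),
  ([120, 128, 20, 3, 9, 3, 0, 3, 1], .pos [-1, -1, 1, 38, -1, -1, 64, -1, 12]),
  ([120, 128, 20, 9, 3, 3, 3, 1, 0], .pos [1, -12, 25, -12, 144, 66, 66, 144, 144]),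
  ([120, 128, 32, 0, 1, 1, 8, 8, 0], .pos [-1, -1, 1, 51, -1, 25, -1, -1, 51]),
  ([120, 128, 32, 0, 8, 8, 0, 1, 1], .pos [-1, -1, 1, 38, -1, -1, 64, -1, 12]),
  ([120, 128, 32, 1, 0, 1, 0, 8, 8], .pos [-3, -3, 3, 49, 62, -3, 192, -3, 36]),
  ([120, 128, 32, 1, 1, 0, 8, 0, 8], .pos [-2, -2, 2, 50, 37, 63, -2, 37, 24]),
  ([120, 128, 32, 8, 0, 8, 1, 0, 1], .pos [-6, -6, 19, -6, 228, -6, 384, 228, 72]),
  ([120, 128, 32, 8, 8, 0, 1, 1, 0], .pos [1, -12, -1, 144, -12, 144, -12, 144, 300])]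

end Cfsg.Agent.E8Three
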