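/-
Eigenvalues in the adjoint representation of the elements of order two and seventy-three of E₈(3).
-/
import Cfsg.Agent.Lib.OddInvol.E8
import Cfsg.Agent.Lib.LangSteinberg.SylowE8
import Cfsg.Agent.Lib.AltSection.Joint
import Cfsg.Agent.Lib.Chev.Order

set_option autoImplicit false
set_option linter.style.haveILetI false
set_option maxRecDepth 4000
set_option maxHeartbeats 1000000

namespace Cfsg.Agent.E8Three

open Cfsg.Lie Cfsg.Agent.Chev Cfsg.Agent.Chev.BNSetup Cfsg.Agent.LangSteinberg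
open Polynomial

local instance instFactPrimeThreeE8 : Fact (Nat.Prime 3) := ⟨Nat.prime_three⟩

/-- The exponent of `-1` at a coordinate for an involution of the torus. -/
def exInv (c : ℕ) : chevE8.Idx → ℕ :=
  Sum.elim (fun _ => 0) fun s => ((OddInvol.wt (OddInvol.vOf chevE8 c) s.val) % 2).toNat

/-- The exponent at a coordinate for an element of the torus of type twelve. -/
def ex73 (x : Fin 2 → ZMod 73) : chevE8.Idx → ZMod 73 :=
  Sum.elim (fun _ => 0) fun r => ∑ j ∈ Finset.range chevE8.rank, (cdE8 r.val j : ZMod 73) *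
    ∑ i : Fin 2, x i * torE8d12.value 73 3 i.val j

theorem roots_conj_diag {k : Type*} [Field k] {N : Type*} [Fintype N] [DecidableEq N] (g : GL N k) (f : N → k)
    (M : Matrix N N k) (h : M = (g : Matrix N N k) * Matrix.diagonal f * ((g⁻¹ : GL N k) : Matrix N N k)) :
    M.charpoly.roots = (Finset.univ : Finset N).val.map f := by
  rw [h, Matrix.coe_units_inv, Matrix.charpoly_units_conj, Matrix.charpoly_diagonal, Finset.prod_eq_multiset_prod]
  rw [show Multiset.map (fun i => X - C (f i)) (Finset.univ : Finset N).val =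
    ((Finset.univ : Finset N).val.map f).map (fun z => X - C z) by rw [Multiset.map_map]; rfl]
  exact roots_multiset_prod_X_sub_C _

/-- The involutions. -/
theorem involution_roots {k : Type*} [Field k] (j : ZMod 3 →+* k) (a : ↥(chevE8.group (ZMod 3))) (h1 : a * a = 1)
    (h2 : a ≠ 1) :
    ∃ c ∈ [OddInvol.E8.codeA, OddInvol.E8.codeB],
      (((a : GL chevE8.Idx (ZMod 3)) : Matrix chevE8.Idx chevE8.Idx (ZMod 3)).map j).charpoly.roots =
        (Finset.univ : Finset chevE8.Idx).val.map fun i => (-1 : k) ^ exInv c i := by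
  classical
  have h3 : (2 : ZMod 3) ≠ 0 := by decide
  have hsq : (a : GL chevE8.Idx (ZMod 3)) * a = 1 := by rw [← Subgroup.coe_mul, h1, Subgroup.coe_one]
  have hne : (a : GL chevE8.Idx (ZMod 3)) ≠ 1 := fun h => h2 (Subtype.ext (h.trans (Subgroup.coe_one _).symm))
  obtain ⟨c, hc, g, hg, e⟩ : ∃ c ∈ [OddInvol.E8.codeA, OddInvol.E8.codeB],
      OddInvol.Cj (a : GL chevE8.Idx (ZMod 3)) (OddInvol.tv (ZMod 3) (OddInvol.vOf chevE8 c)) := by
    rcases OddInvol.cj_reps E8.good facts_chevE8 h3 kerCertE8 kerCertE8_valid OddInvol.E8.orth_ok OddInvol.E8.paths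
      OddInvol.E8.codeB OddInvol.E8.codeA
      (fun c hc h0 => ⟨(OddInvol.E8.paths_ok c hc h0).1, (OddInvol.E8.paths_ok c hc h0).2.symm⟩) a.2
      hsq hne with h | h
    · exact ⟨_, by simp, h⟩
    · exact ⟨_, by simp, h⟩
  refine ⟨c, hc, ?_⟩
  refine roots_conj_diag (Units.map j.mapMatrix.toMonoidHom g⁻¹) _ _ ?_
  have ha : (a : GL chevE8.Idx (ZMod 3)) = g⁻¹ * OddInvol.tv (ZMod 3) (OddInvol.vOf chevE8 c) * g := by
    rw [← e]; group
  rw [ha, Units.val_mul, Units.val_mul, Matrix.map_mul, Matrix.map_mul, ← map_inv, inv_inv]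
  congr 2
  rw [OddInvol.tv, coe_torusHom, hdiag, Matrix.diagonal_map (map_zero _)]
  congr 1
  funext i
  rcases i with i | s
  · simp [exInv]
  · show j _ = _
    simp only [Sum.elim_inr, exInv, OddInvol.char_cv]
    rcases Int.emod_two_eq_zero_or_one (OddInvol.wt (OddInvol.vOf chevE8 c) s.val) with h | h
    · rw [h, (Int.even_iff.2 h).neg_one_zpow]; simp
    · rw [h, (Int.odd_iff.2 h).neg_one_zpow]; simp

theorem not_cube_dvd :
    (3 ^ 120 * (3 - 1) ^ chevE8.rank * RootBN.levelsPoly 3 WeylTab.levelsE8) % 73 ^ 3 ≠ 0 := by decide +kernel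

theorem gen_ne : ∀ x : Fin 2 → ZMod 73, x ≠ 0 → (fun i => Multiplicative.ofAdd (x i)) ≠ 1 := fun x hx h =>
  hx (funext fun i => by simpa using congrArg Multiplicative.toAdd (congrFun h i))

/-- The elements of order seventy-three. -/
theorem torus73 :
    ∃ ψ : AddChar (ZMod 73) (AlgebraicClosure (ZMod 3))ˣ, (∀ z, ψ z = 1 → z = 0) ∧
      ∀ (j : ZMod 3 →+* AlgebraicClosure (ZMod 3)) (a : ↥(chevE8.group (ZMod 3))), a ^ 73 = 1 → a ≠ 1 →
        ∃ x : Fin 2 → ZMod 73, x ≠ 0 ∧
          (((a : GL chevE8.Idx (ZMod 3)) : Matrix chevE8.Idx chevE8.Idx (ZMod 3)).map j).charpoly.roots =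
            (Finset.univ : Finset chevE8.Idx).val.map fun i =>
              ((ψ (ex73 x i) : (AlgebraicClosure (ZMod 3))ˣ) : AlgebraicClosure (ZMod 3)) := by
  classical
  haveI : Fact (Nat.Prime 73) := ⟨by norm_num⟩
  have hJ : torE8d12.J.length = 2 := rfl
  obtain ⟨f, ψ, g, hf, hψ, -, -, hval⟩ := LangSteinberg.exists_torus (F := ZMod 3) E8.good facts_chevE8 coordsE8 1
    Nat.one_pos denE8 (fun i hi j hj => (TorusData.list_range_sum_eq _ _).symm.trans (denE8_right i hi j hj))
    (fun i hi j hj => (TorusData.list_range_sum_eq _ _).symm.trans (denE8_left i hi j hj)) torE8d12_checked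
    (q := 3) (m := 73) (ZMod.card 3) (by decide) (Nat.coprime_one_left 73) (by decide +kernel)
  refine ⟨ψ, hψ, fun j a h73 ha => ?_⟩
  have hcR : Nat.card f.range = 73 ^ 2 := by
    rw [← Nat.card_congr (MonoidHom.ofInjective hf).toEquiv, Nat.card_fun, Nat.card_eq_fintype_card,
      Nat.card_eq_fintype_card, Fintype.card_multiplicative, ZMod.card, Fintype.card_fin]
    rfl
  have hidx : ¬ 73 ∣ f.range.index := by
    intro hd
    have h := card_group (F := ZMod 3) E8.good facts_chevE8 kerCertE8 kerCertE8_valid WeylTab.levelsE8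
      OddInvol.E8.levels_len WeylTab.levelsOK_E8
    rw [pow_zero, one_mul, ZMod.card, show chevE8.nroots / 2 = 120 from rfl] at h
    refine not_cube_dvd (Nat.mod_eq_zero_of_dvd ?_)
    rw [← h, ← f.range.card_mul_index, hcR, pow_succ]
    exact Nat.mul_dvd_mul_left _ hd
  obtain ⟨c, hc⟩ := AltSection.exists_conj_le hidx (P := Subgroup.zpowers a) (IsPGroup.of_card_dvd_pow (n := 1) (by
    rw [Nat.card_zpowers, pow_one]; exact orderOf_dvd_of_pow_eq_one h73))
  obtain ⟨y, hy⟩ := hc a (Subgroup.mem_zpowers a)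
  have hy1 : y ≠ 1 := fun h => ha (by
    rw [h, map_one, eq_comm] at hy
    exact conj_eq_one_iff.1 hy)
  refine ⟨fun i => (y i).toAdd, fun h => hy1 (funext fun i => Multiplicative.toAdd.injective ?_), ?_⟩
  · exact congrFun h i
  obtain ⟨hd, hchi⟩ := hval y
  set ι := algebraMap (ZMod 3) (AlgebraicClosure (ZMod 3)) with hι
  have hj : j = ι := RingHom.ext_zmod _ _
  set t := g⁻¹ * entryMap chevE8 ι (f y : GL chevE8.Idx (ZMod 3)) * g with ht
  have ht' : (t : Matrix chevE8.Idx chevE8.Idx (AlgebraicClosure (ZMod 3))) = Matrix.diagonal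
      (fun i => ((ψ (ex73 (fun i => (y i).toAdd) i) : (AlgebraicClosure (ZMod 3))ˣ) : AlgebraicClosure (ZMod 3))) := by
    obtain ⟨χ, hχ⟩ := tri_H facts_chevE8 E8.good hd
    rw [hχ, hdiag]
    congr 1
    funext i
    rcases i with i | r
    · simp [ex73]
    · rw [Sum.elim_inr, ← chi_of_coe hχ r, hchi r]
      rfl
  refine roots_conj_diag (entryMap chevE8 ι ((c : GL chevE8.Idx (ZMod 3)))⁻¹ * g) _ _ ?_
  rw [← ht', ← Units.val_mul, ← Units.val_mul, hj]
  show ((entryMap chevE8 ι (a : GL chevE8.Idx (ZMod 3)) : GL chevE8.Idx (AlgebraicClosure (ZMod 3))) :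
    Matrix chevE8.Idx chevE8.Idx (AlgebraicClosure (ZMod 3))) = _
  refine congrArg Units.val ?_
  rw [ht, hy, Subgroup.coe_mul, Subgroup.coe_mul, Subgroup.coe_inv, map_mul, map_mul, map_inv]
  group

end Cfsg.Agent.E8Three
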