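/-
The counts of eigenvalue residues of the elements of order two and seventy-three of E₈(3), and the checks of
the certificates.
-/
import Cfsg.Agent.Lib.E8Three.Data
import Cfsg.Agent.Lib.E8Three.Semisimple

set_option autoImplicit false
set_option linter.style.haveILetI false
set_option maxRecDepth 100000
set_option maxHeartbeats 2000000

namespace Cfsg.Agent.E8Three

open Cfsg.Lie Cfsg.Agent.SL2Defining Cfsg.Agent.LangSteinberg

/-- The tests: residues modulo two, then modulo seventy-three. -/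
def tests6 : List (ℕ × ℕ) := [(2, 0), (2, 1)] ++ reps73.map fun r => (73, r)

/-- The tests modulo two. -/
def tests5 : List (ℕ × ℕ) := [(2, 0), (2, 1)]

theorem orbs5_ok : OrbitsOK 5 orbs5 = true := by decide +kernel

theorem orbs6_ok : OrbitsOK 6 orbs6 = true := by decide +kernel

theorem cols5_eq : cols5 = orbs5.map fun o => tests5.map fun t => resCount t.1 t.2 (o.flatMap fun k => wl (dec 5 k)) := by
  decide +kernel

theorem cols6_eq : cols6 = orbs6.map fun o => tests6.map fun t => resCount t.1 t.2 (o.flatMap fun k => wl (dec 6 k)) := by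
  decide +kernel

theorem certs5_ok : ∀ p ∈ certs5, p.1.length = 2 ∧ p.2.check cols5 p.1 = true := by decide +kernel

theorem certs6_ok : ∀ p ∈ certs6, p.1.length = 9 ∧ p.2.check cols6 p.1 = true := by decide +kernel

/-- The targets from involutions. -/
def targets2 : List (List ℕ) := [[136, 112], [120, 128]]

theorem certs5_all : ∀ T ∈ targets2, T.map (Nat.cast : ℕ → ℤ) ∈ certs5.map Prod.fst := by decide +kernel

theorem certs6_all : ∀ T ∈ targets2, ∀ U ∈ targets73, (T ++ U).map (Nat.cast : ℕ → ℤ) ∈ certs6.map Prod.fst := by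
  decide +kernel

theorem exInv_counts : ∀ c ∈ [OddInvol.E8.codeA, OddInvol.E8.codeB],
    [((Finset.univ : Finset chevE8.Idx).filter fun i => ((exInv c i : ℕ) : ZMod 2) = (0 : ℕ)).card,
      ((Finset.univ : Finset chevE8.Idx).filter fun i => ((exInv c i : ℕ) : ZMod 2) = (1 : ℕ)).card] ∈ targets2 := by
  decide +kernel

/-- The coefficient of the generator at a root. -/
def gen73 (i : ℕ) (r : ℕ) : ZMod 73 :=
  ∑ j ∈ Finset.range chevE8.rank, (cdE8 r j : ZMod 73) * torE8d12.value 73 3 i j

theorem uv73_eq : ∀ r : Fin chevE8.nroots,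
    gen73 0 r.val = ((uv73.getD r.val (0, 0)).1 : ZMod 73) ∧ gen73 1 r.val = ((uv73.getD r.val (0, 0)).2 : ZMod 73) := by
  decide +kernel

theorem ex73_inr (x : Fin 2 → ZMod 73) (r : Fin chevE8.nroots) :
    ex73 x (Sum.inr r) = x 0 * (uv73.getD r.val (0, 0)).1 + x 1 * (uv73.getD r.val (0, 0)).2 := by
  rw [← (uv73_eq r).1, ← (uv73_eq r).2]
  simp only [ex73, Sum.elim_inr, gen73, Fin.sum_univ_two, Fin.val_zero, Fin.val_one, Finset.mul_sum, mul_add,
    Finset.sum_add_distrib]
  exact congrArg₂ (· + ·) (Finset.sum_congr rfl fun j _ => by ring) (Finset.sum_congr rfl fun j _ => by ring)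

/-- The packed histogram. -/
def hist (a b : ℕ) : ℕ := 8 + (uv73.map fun p => 256 ^ ((a * p.1 + b * p.2) % 73)).sum

theorem digit (a : ℕ → ℕ) : ∀ (k n : ℕ), (∀ z, a z < 256) → k < n →
    (∑ z ∈ Finset.range n, a z * 256 ^ z) / 256 ^ k % 256 = a k := by
  intro k
  induction k generalizing a with
  | zero =>
    intro n ha hk
    obtain ⟨n, rfl⟩ := Nat.exists_eq_add_of_le' hk
    rw [pow_zero, Nat.div_one, Finset.sum_range_succ', pow_zero, mul_one,
      Finset.sum_congr rfl fun z _ => show a (z + 1) * 256 ^ (z + 1) = 256 * (a (z + 1) * 256 ^ z) by ring,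
      ← Finset.mul_sum, Nat.mul_add_mod, Nat.mod_eq_of_lt (ha 0)]
  | succ k ih =>
    intro n ha hk
    obtain ⟨n, rfl⟩ := Nat.exists_eq_add_of_le' (Nat.lt_of_le_of_lt (Nat.zero_le _) hk)
    rw [Finset.sum_range_succ', pow_zero, mul_one,
      Finset.sum_congr rfl fun z _ => show a (z + 1) * 256 ^ (z + 1) = 256 * (a (z + 1) * 256 ^ z) by ring,
      ← Finset.mul_sum, pow_succ', ← Nat.div_div_eq_div_mul, Nat.mul_add_div (by norm_num),
      Nat.div_eq_of_lt (ha 0), add_zero]
    exact ih (fun z => a (z + 1)) n (fun z => ha _) (by omega)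

theorem card_idx : Fintype.card chevE8.Idx = 248 := by decide +kernel

theorem uv73_length : uv73.length = chevE8.nroots := by decide +kernel

/-- Reading the counts off the histogram. -/
theorem count_hist (a b : ℕ) (k : ℕ) (hk : k < 73) :
    hist a b / 256 ^ k % 256 =
      ((Finset.univ : Finset chevE8.Idx).filter fun i => ex73 ![(a : ZMod 73), b] i = (k : ZMod 73)).card := by
  classical
  have hr : chevE8.rank = 8 := OddInvol.E8.rank_eq
  have h : hist a b = ∑ i : chevE8.Idx, 256 ^ (ex73 ![(a : ZMod 73), b] i).val := by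
    rw [Fintype.sum_sum_type]
    have h1 : ∀ i : Fin chevE8.rank, 256 ^ (ex73 ![(a : ZMod 73), b] (Sum.inl i)).val = 1 := fun i => by
      simp [ex73]
    rw [Finset.sum_congr rfl fun i _ => h1 i, Finset.sum_const, Finset.card_univ, Fintype.card_fin, smul_eq_mul,
      mul_one, hist]
    refine congrArg₂ (· + ·) hr.symm ?_
    rw [show uv73 = List.ofFn fun r : Fin chevE8.nroots => uv73.getD r.val (0, 0) from
      List.ext_getElem (by simp [uv73_length]) fun i h1 h2 => by simp [List.getD_eq_getElem?_getD, h1],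
      List.map_ofFn, List.sum_ofFn]
    refine Finset.sum_congr rfl fun r _ => ?_
    rw [Function.comp_apply, ex73_inr]
    simp only [Matrix.cons_val_zero, Matrix.cons_val_one]
    rw [← Nat.cast_mul, ← Nat.cast_mul, ← Nat.cast_add, ZMod.val_natCast]
  rw [h, ← Finset.sum_fiberwise_of_maps_to (g := fun i => (ex73 ![(a : ZMod 73), b] i).val) (t := Finset.range 73)
    fun i _ => Finset.mem_range.2 (ZMod.val_lt _)]
  rw [Finset.sum_congr rfl fun z _ => (Finset.sum_congr rfl fun i hi => by
    rw [(Finset.mem_filter.1 hi).2] : _ = ∑ i ∈ Finset.univ.filter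
      (fun i : chevE8.Idx => (ex73 ![(a : ZMod 73), b] i).val = z), 256 ^ z)]
  simp only [Finset.sum_const, smul_eq_mul]
  rw [digit _ k 73 (fun z => lt_of_le_of_lt (Finset.card_filter_le _ _) (by rw [Finset.card_univ, card_idx]; omega)) hk]
  refine congrArg Finset.card (Finset.filter_congr fun i _ => ?_)
  constructor
  · intro hi; rw [← hi, ZMod.natCast_zmod_val]
  · intro hi; rw [hi, ZMod.val_natCast, Nat.mod_eq_of_lt hk]

/-- Representatives of the lines. -/
def lines73 : List (ℕ × ℕ) := (0, 1) :: (List.range 73).map fun b => (1, b)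

theorem lines73_targets : ∀ p ∈ lines73, ∀ c ∈ (List.range 72).map (· + 1),
    (reps73.map fun r => hist p.1 p.2 / 256 ^ (r * c % 73) % 256) ∈ targets73 := by decide +kernel

theorem ex73_smul (s : ZMod 73) (x : Fin 2 → ZMod 73) (i : chevE8.Idx) : ex73 (s • x) i = s * ex73 x i := by
  rcases i with i | r
  · simp [ex73]
  · simp only [ex73_inr, Pi.smul_apply, smul_eq_mul]
    ring

/-- The counts for an element of order seventy-three. -/
theorem ex73_counts (x : Fin 2 → ZMod 73) (hx : x ≠ 0) :
    (reps73.map fun (r : ℕ) => ((Finset.univ : Finset chevE8.Idx).filter fun i => ex73 x i = (r : ZMod 73)).card) ∈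
      targets73 := by
  haveI : Fact (Nat.Prime 73) := ⟨by norm_num⟩
  obtain ⟨p, hp, s, hs, rfl⟩ : ∃ p ∈ lines73, ∃ s : ZMod 73, s ≠ 0 ∧ x = s • ![(p.1 : ZMod 73), p.2] := by
    rcases eq_or_ne (x 0) 0 with h0 | h0
    · refine ⟨(0, 1), by simp [lines73], x 1, fun h1 => hx ?_, ?_⟩
      · funext i; fin_cases i <;> simp [h0, h1]
      · funext i; fin_cases i <;> simp [h0]
    · refine ⟨(1, (x 1 / x 0).val), List.mem_cons_of_mem _ (List.mem_map.2 ⟨_, List.mem_range.2 (ZMod.val_lt _), rfl⟩),
        x 0, h0, ?_⟩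
      funext i
      fin_cases i <;> simp [mul_div_cancel₀ _ h0]
  have hc : (s⁻¹).val - 1 + 1 = (s⁻¹).val :=
    Nat.succ_pred_eq_of_pos (Nat.pos_of_ne_zero fun h => inv_ne_zero hs ((ZMod.val_eq_zero _).1 h))
  have h := lines73_targets p hp _ (List.mem_map.2 ⟨(s⁻¹).val - 1,
    List.mem_range.2 (by have := ZMod.val_lt (s⁻¹); omega), hc⟩)
  convert h using 1
  refine List.map_congr_left fun r _ => ?_
  rw [count_hist p.1 p.2 _ (Nat.mod_lt _ (by norm_num))]
  refine congrArg Finset.card (Finset.filter_congr fun i _ => ?_)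
  rw [ex73_smul, ZMod.natCast_mod, Nat.cast_mul, ZMod.natCast_zmod_val]
  constructor
  · intro hi; rw [← hi, mul_comm, inv_mul_cancel_left₀ hs]
  · intro hi; rw [hi, mul_comm, mul_assoc, inv_mul_cancel₀ hs, mul_one]

end Cfsg.Agent.E8Three
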