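/-
No embedding of PSL(2,243) or PSL(2,729) into E₈(3): the eigenvalues of elements of order two and seventy-three
in the adjoint representation contradict the composition factors possible in characteristic three.
-/
import Cfsg.Agent.Lib.E8Three.Counts

set_option autoImplicit false
set_option linter.style.haveILetI false
set_option maxHeartbeats 1000000

namespace Cfsg.Agent.E8Three

open Cfsg.Lie Cfsg.Agent.SL2Defining

local notation "G[" F "]" => Matrix.SpecialLinearGroup (Fin 2) F

local instance instFactPrimeThreeNoPSL2 : Fact (Nat.Prime 3) := ⟨Nat.prime_three⟩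

variable {F : Type*} [Field F] [Fintype F]

theorem comp_not_center (t : F) : comp t ∉ Subgroup.center G[F] := by
  intro h
  obtain ⟨r, -, hr⟩ := Matrix.SpecialLinearGroup.mem_center_iff.1 h
  have := congrArg (fun M : Matrix (Fin 2) (Fin 2) F => M 1 0) hr
  simp [comp] at this

theorem comp_zero_sq : comp (0 : F) * comp 0 ∈ Subgroup.center G[F] := by
  refine Matrix.SpecialLinearGroup.mem_center_iff.2 ⟨-1, by simp, ?_⟩
  show _ = (comp (0 : F)).1 * (comp 0).1
  ext i j
  fin_cases i <;> fin_cases j <;> simp [comp]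

theorem comp_pow_eq_one {k : Type*} [Field k] (ι : F →+* k) (t : F) (ζ : kˣ)
    (hsum : ι t = (ζ : k) + (ζ⁻¹ : kˣ)) (hne : (ζ : k) ≠ (ζ⁻¹ : kˣ)) (m : ℕ) (hm : ζ ^ m = 1) :
    comp t ^ m = 1 := by
  let P : Matrix (Fin 2) (Fin 2) k := !![-((ζ⁻¹ : kˣ) : k), -(ζ : k); 1, 1]
  let D : Matrix (Fin 2) (Fin 2) k := Matrix.diagonal ![(ζ : k), (ζ⁻¹ : kˣ)]
  have h1 : (comp t).1.map ι * P = P * D := by
    ext i j
    fin_cases i <;> fin_cases j <;>
      simp [comp, P, D, Matrix.mul_apply, Fin.sum_univ_two, Matrix.map_apply, hsum]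
  have h2 : ∀ j : ℕ, ((comp t).1.map ι) ^ j * P = P * D ^ j := by
    intro j
    induction j with
    | zero => simp
    | succ j ih => rw [pow_succ, Matrix.mul_assoc, h1, ← Matrix.mul_assoc, ih, Matrix.mul_assoc, ← pow_succ]
  have hD : D ^ m = 1 := by
    rw [Matrix.diagonal_pow, ← Matrix.diagonal_one]
    congr 1
    funext i
    have h : ((ζ : k)) ^ m = 1 := by rw [← Units.val_pow_eq_pow_val, hm, Units.val_one]
    fin_cases i
    · simpa using h
    · simp only [Fin.mk_one, Pi.pow_apply, Matrix.cons_val_one, Matrix.cons_val_fin_one]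
      rw [← Units.val_pow_eq_pow_val, inv_pow, hm, inv_one, Units.val_one]
  have hP : IsUnit P := by
    rw [Matrix.isUnit_iff_isUnit_det, Matrix.det_fin_two_of, isUnit_iff_ne_zero]
    intro h
    exact hne (by linear_combination h)
  have h3 := h2 m
  rw [hD, Matrix.mul_one] at h3
  have h4 : ((comp t).1.map ι) ^ m = 1 := hP.mul_eq_right.1 h3
  refine Subtype.ext (Matrix.map_injective ι.injective ?_)
  show ((comp t ^ m).1).map ι = _
  rw [Matrix.SpecialLinearGroup.coe_pow, ← RingHom.mapMatrix_apply, map_pow, RingHom.mapMatrix_apply, h4,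
    Matrix.SpecialLinearGroup.coe_one]
  exact (Matrix.map_one _ ι.map_zero ι.map_one).symm

/-- A certificate list excludes the counts. -/
theorem absurd_counts {n : ℕ} {orbs cs : List (List ℕ)} (h : OrbitsOK n orbs = true) (tests : List (ℕ × ℕ))
    (hcs : cs = orbs.map fun o => tests.map fun t => resCount t.1 t.2 (o.flatMap fun k => wl (dec n k)))
    (certs : List (List ℤ × Cert)) (hok : ∀ p ∈ certs, p.1.length = tests.length ∧ p.2.check cs p.1 = true)
    (T : List ℕ) (hT : T.map (Nat.cast : ℕ → ℤ) ∈ certs.map Prod.fst)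
    (c : (Fin n → Fin 3) → ℕ) (hrot : ∀ d, c (rot d) = c d) (heven : ∀ d, c d ≠ 0 → Even (dsum d))
    (hsum : (tests.map fun t => ∑ d, c d * resCount t.1 t.2 (wl d)) = T) : False := by
  obtain ⟨⟨b, C⟩, hp, hb⟩ := List.mem_map.1 hT
  simp only at hb
  obtain ⟨hlen, hC⟩ := hok _ hp
  refine no_counts h tests hcs b hlen C hC c hrot heven fun i hi => ?_
  rw [hb, ← hsum]
  simp [List.getD_eq_getElem?_getD, hi]

/-- The data of an embedding. -/
structure Embeds (F : Type*) [Field F] [Fintype F] where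
  hom : G[F] →* ↥(chevE8.group (ZMod 3))
  ker : ∀ g, hom g = 1 ↔ g ∈ Subgroup.center G[F]

namespace Embeds

variable (f : Embeds F)

/-- The adjoint representation. -/
noncomputable def mat : G[F] →* Matrix chevE8.Idx chevE8.Idx (ZMod 3) :=
  (Units.coeHom _).comp ((chevE8.group (ZMod 3)).subtype.comp f.hom)

theorem mat_neg_one : f.mat (tor (-1)) = 1 := by
  have h : (tor (-1) : G[F]) ∈ Subgroup.center G[F] := by
    refine Matrix.SpecialLinearGroup.mem_center_iff.2 ⟨-1, by simp, ?_⟩
    ext i j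
    fin_cases i <;> fin_cases j <;> simp [tor]
  simp [mat, (f.ker _).2 h]

/-- An embedding from an isomorphism with a subgroup. -/
noncomputable def ofIso (H : Subgroup ↥(chevE8.group (ZMod 3)))
    (e : ↥H ≃* Matrix.ProjectiveSpecialLinearGroup (Fin 2) F) : Embeds F where
  hom := H.subtype.comp (e.symm.toMonoidHom.comp (QuotientGroup.mk' _))
  ker g := by
    rw [MonoidHom.comp_apply, MonoidHom.comp_apply, Subgroup.subtype_apply, OneMemClass.coe_eq_one,
      MulEquiv.coe_toMonoidHom, MulEquiv.map_eq_one_iff]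
    exact QuotientGroup.eq_one_iff g

/-- The counts modulo two. -/
theorem counts_two {k : Type*} [Field k] [CharP k 3] [IsAlgClosed k] (ι : F →+* k) {n : ℕ}
    (c : (Fin n → Fin 3) → ℕ)
    (hc : ∀ (ι : F →+* k) (j : ZMod 3 →+* k) (t : F) (ζ : kˣ), ι t = (ζ : k) + (ζ⁻¹ : kˣ) → (ζ : k) ≠ (ζ⁻¹ : kˣ) →
        ((f.mat (comp t)).map j).charpoly.roots =
          ∑ d, c d • (Finset.univ : Finset (Idx d)).val.map fun e => (((ζ ^ 2) ^ hw d e : kˣ) : k)) :
    [∑ d, c d * resCount 2 0 (wl d), ∑ d, c d * resCount 2 1 (wl d)] ∈ targets2 := by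
  obtain ⟨z, hz⟩ := IsAlgClosed.exists_pow_nat_eq (-1 : k) two_pos
  have hz0 : z ≠ 0 := by rintro rfl; simp at hz
  have hneg : (-1 : k) ≠ 1 := fun h => by
    have h2 : ((2 : ℕ) : k) = 0 := by push_cast; linear_combination -h
    rw [CharP.cast_eq_zero_iff k 3] at h2
    norm_num at h2
  set ζ := Units.mk0 z hz0 with hζ
  have hinv : ((ζ⁻¹ : kˣ) : k) = -z := by
    rw [Units.val_inv_eq_inv_val, Units.val_mk0, inv_eq_of_mul_eq_one_right]
    linear_combination -hz
  have hne : (ζ : k) ≠ (ζ⁻¹ : kˣ) := by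
    rw [hinv, Units.val_mk0]
    intro h
    apply hneg
    have : z * z = z * -z := congrArg (z * ·) h
    linear_combination this - 2 * hz
  have hsum : ι 0 = (ζ : k) + (ζ⁻¹ : kˣ) := by rw [hinv, Units.val_mk0, map_zero, add_neg_cancel]
  obtain ⟨code, hcode, hroots⟩ := involution_roots (ZMod.castHom (dvd_refl 3) k) (f.hom (comp 0))
    (by rw [← map_mul]; exact (f.ker _).2 comp_zero_sq) (fun h => comp_not_center _ ((f.ker _).1 h))
  let u : ZMod 2 → k := fun z => (-1) ^ z.val
  have hu : Function.Injective u := by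
    intro a b h
    fin_cases a <;> fin_cases b <;> first | rfl | (exfalso; simp [u, ZMod.val] at h; first | exact hneg h | exact hneg h.symm)
  have hzu : ∀ e : ℤ, (((ζ ^ 2) ^ e : kˣ) : k) = u e := by
    intro e
    rw [show ζ ^ 2 = -1 from Units.ext (by simp [ζ, hz])]
    rcases Int.even_or_odd e with he | he
    · rw [he.neg_one_zpow, show (e : ZMod 2) = 0 from (ZMod.intCast_zmod_eq_zero_iff_dvd e 2).2 he.two_dvd]
      simp [u]
    · obtain ⟨q, rfl⟩ := he
      rw [Odd.neg_one_zpow ⟨q, rfl⟩, show ((2 * q + 1 : ℤ) : ZMod 2) = 1 by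
        push_cast; rw [show (2 : ZMod 2) = 0 from rfl]; simp]
      simp [u, show ZMod.val (1 : ZMod 2) = 1 from rfl]
  have h := counts_eq u hu ζ hzu (fun i => ((exInv code i : ℕ) : ZMod 2)) c (by
    rw [← hc ι (ZMod.castHom (dvd_refl 3) k) 0 ζ hsum hne]
    show (((f.hom (comp 0) : GL chevE8.Idx (ZMod 3)) : Matrix chevE8.Idx chevE8.Idx (ZMod 3)).map _).charpoly.roots = _
    rw [hroots]
    exact Multiset.map_congr rfl fun i _ => by
      simp only [u, ZMod.val_natCast]; exact neg_one_pow_eq_pow_mod_two _)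
  have e : ∀ r < 2, ∑ d, c d * resCount 2 r (wl d) =
      (Finset.univ.filter fun i => ((exInv code i : ℕ) : ZMod 2) = (r : ZMod 2)).card := fun r hr => by
    rw [← h]; exact Finset.sum_congr rfl fun d _ => by rw [card_hw 2 r hr]
  rw [e 0 (by norm_num), e 1 (by norm_num)]
  exact exInv_counts code hcode

end Embeds

/-- No embedding for 243. -/
theorem no_243 (hF : Fintype.card F = 3 ^ 5) : Embeds F → False := by
  intro f
  haveI : CharP F 3 := charP_of_card_eq_prime_pow hF
  letI : Algebra (ZMod 3) F := ZMod.algebra F 3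
  let ι : F →+* AlgebraicClosure (ZMod 3) := (IsAlgClosed.lift (R := ZMod 3) (S := F)).toRingHom
  obtain ⟨c, hrot, heven, hc⟩ := exists_counts (k := AlgebraicClosure (ZMod 3)) hF (by norm_num) f.mat f.mat_neg_one
  exact absurd_counts orbs5_ok tests5 cols5_eq certs5 (fun p hp => certs5_ok p hp) _
    (certs5_all _ (f.counts_two ι c hc)) c hrot heven rfl

open Polynomial in
theorem mem_range_of_pow_card {k : Type*} [Field k] (ι : F →+* k) (T : k) (hT : T ^ Fintype.card F = T) :
    ∃ t, ι t = T := by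
  classical
  by_contra h
  push Not at h
  have hq : 1 < Fintype.card F := Fintype.one_lt_card
  have hdeg : (X ^ Fintype.card F - X : k[X]).natDegree = Fintype.card F := FiniteField.X_pow_card_sub_X_natDegree_eq k hq
  have hne : (X ^ Fintype.card F - X : k[X]) ≠ 0 := FiniteField.X_pow_card_sub_X_ne_zero k hq
  have hsub : insert T ((Finset.univ : Finset F).image ι) ⊆ (X ^ Fintype.card F - X : k[X]).roots.toFinset := by
    intro x hx
    rw [Multiset.mem_toFinset, mem_roots hne, IsRoot.def, eval_sub, eval_pow, eval_X, sub_eq_zero]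
    rcases Finset.mem_insert.1 hx with rfl | hx
    · exact hT
    · obtain ⟨a, -, rfl⟩ := Finset.mem_image.1 hx
      rw [← map_pow, FiniteField.pow_card]
  have h1 := (Finset.card_le_card hsub).trans ((Multiset.toFinset_card_le _).trans (card_roots' _))
  rw [hdeg, Finset.card_insert_of_notMem (by simpa using fun a => h a),
    Finset.card_image_of_injective _ ι.injective, Finset.card_univ] at h1
  omega

theorem reps73_lt : ∀ r ∈ reps73, r < 73 := by decide +kernel

/-- No embedding for 729. -/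
theorem no_729 (hF : Fintype.card F = 3 ^ 6) : Embeds F → False := by
  intro f
  haveI : CharP F 3 := charP_of_card_eq_prime_pow hF
  letI : Algebra (ZMod 3) F := ZMod.algebra F 3
  haveI : Fact (Nat.Prime 73) := ⟨by norm_num⟩
  let ι : F →+* AlgebraicClosure (ZMod 3) := (IsAlgClosed.lift (R := ZMod 3) (S := F)).toRingHom
  obtain ⟨c, hrot, heven, hc⟩ := exists_counts (k := AlgebraicClosure (ZMod 3)) hF (by norm_num) f.mat f.mat_neg_one
  have h2 := f.counts_two ι c hc
  obtain ⟨ψ, hψ, htor⟩ := torus73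
  set ζ : (AlgebraicClosure (ZMod 3))ˣ := ψ.toMonoidHom (Multiplicative.ofAdd 37) with hζ
  have hζψ : ζ = ψ 37 := rfl
  have hinj : ∀ a b, ψ a = ψ b → a = b := fun a b h => sub_eq_zero.1 (hψ _ (by
    rw [AddChar.map_sub_eq_div, h, div_self']))
  have hsq : ζ ^ 2 = ψ 1 := by rw [hζψ, ← AddChar.map_nsmul_eq_pow]; rfl
  have hne : (ζ : AlgebraicClosure (ZMod 3)) ≠ (ζ⁻¹ : (AlgebraicClosure (ZMod 3))ˣ) := fun h => by
    have h1 : ζ ^ 2 = 1 := by rw [sq]; nth_rewrite 2 [Units.ext h]; exact mul_inv_cancel _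
    rw [hsq] at h1
    exact one_ne_zero (hψ 1 h1)
  have h73 : ζ ^ 73 = 1 := by
    rw [hζψ, ← AddChar.map_nsmul_eq_pow, show (73 : ℕ) • (37 : ZMod 73) = 0 from rfl, AddChar.map_zero_eq_one]
  have hfix : ζ ^ 729 = ζ⁻¹ := by
    refine eq_inv_of_mul_eq_one_left ?_
    rw [← pow_succ, show 729 + 1 = 73 * 10 from rfl, pow_mul, h73, one_pow]
  obtain ⟨t, ht⟩ := mem_range_of_pow_card ι ((ζ : AlgebraicClosure (ZMod 3)) + (ζ⁻¹ : (AlgebraicClosure (ZMod 3))ˣ)) (by
    rw [hF, add_pow_char_pow, show (3 : ℕ) ^ 6 = 729 from rfl, ← Units.val_pow_eq_pow_val, ← Units.val_pow_eq_pow_val,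
      inv_pow, hfix, inv_inv, add_comm])
  obtain ⟨x, hx, hroots⟩ := htor (ZMod.castHom (dvd_refl 3) _) (f.hom (comp t))
    (by rw [← map_pow, comp_pow_eq_one ι t ζ ht hne 73 h73, map_one])
    (fun h => comp_not_center _ ((f.ker _).1 h))
  let u : ZMod 73 → AlgebraicClosure (ZMod 3) := fun z => ((ψ z : (AlgebraicClosure (ZMod 3))ˣ) : AlgebraicClosure (ZMod 3))
  have h := counts_eq u (fun a b h => hinj a b (Units.ext h)) ζ (fun e => by
      show _ = ((ψ (e : ZMod 73) : (AlgebraicClosure (ZMod 3))ˣ) : AlgebraicClosure (ZMod 3))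
      rw [hsq, ← AddChar.map_zsmul_eq_zpow, zsmul_one]) (ex73 x) c (by
    rw [← hc ι (ZMod.castHom (dvd_refl 3) _) t ζ ht hne]
    exact hroots)
  have h3 : (reps73.map fun r => ∑ d, c d * resCount 73 r (wl d)) ∈ targets73 := by
    have h4 := ex73_counts x hx
    convert h4 using 1
    refine List.map_congr_left fun r hr => ?_
    rw [← h]
    exact Finset.sum_congr rfl fun d _ => by rw [card_hw 73 r (reps73_lt r hr)]
  refine absurd_counts orbs6_ok tests6 cols6_eq certs6 (fun p hp => certs6_ok p hp) _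
    (certs6_all _ h2 _ h3) c hrot heven ?_
  rw [tests6, List.map_append, List.map_map]
  rfl

end Cfsg.Agent.E8Three
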